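import Mathlib

/-! Algebra for cones of lines: leading forms without common zero, transcendence counting. -/

namespace Groth.Agent.ConeLines

open MvPolynomial Cardinal

universe u v

/-- total degree strictly less than `δ` -/
def DegLT {σ : Type} {S : Type v} [CommSemiring S] (δ : ℕ) (p : MvPolynomial σ S) : Prop :=
  ∀ e ∈ p.support, e.degree < δ

section DegLT

variable {σ : Type} {S : Type v} [CommRing S] {δ ε : ℕ} {p q : MvPolynomial σ S}

theorem DegLT.zero : DegLT δ (0 : MvPolynomial σ S) := fun _ he => by simp at he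

theorem DegLT.add (hp : DegLT δ p) (hq : DegLT δ q) : DegLT δ (p + q) := fun e he => by
  classical
  rcases Finset.mem_union.1 (support_add he) with h | h
  exacts [hp e h, hq e h]

theorem DegLT.neg (hp : DegLT δ p) : DegLT δ (-p) := fun e he => hp e (by simpa using he)

theorem DegLT.sub (hp : DegLT δ p) (hq : DegLT δ q) : DegLT δ (p - q) := by
  rw [sub_eq_add_neg]; exact hp.add hq.neg

theorem DegLT.sum {ι : Type*} (s : Finset ι) {f : ι → MvPolynomial σ S} (h : ∀ i ∈ s, DegLT δ (f i)) :
    DegLT δ (∑ i ∈ s, f i) :=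
  Finset.sum_induction _ _ (fun _ _ => DegLT.add) DegLT.zero h

theorem DegLT.mul (hp : DegLT δ p) (hq : ∀ e ∈ q.support, e.degree ≤ ε) : DegLT (δ + ε) (p * q) := fun e he => by
  classical
  obtain ⟨a, ha, b, hb, rfl⟩ := Finset.mem_add.1 (support_mul p q he)
  rw [map_add]
  exact Nat.add_lt_add_of_lt_of_le (hp a ha) (hq b hb)

end DegLT

variable {E : Type u} [Field E]

theorem isHomogeneous_degree_le {σ : Type} {S : Type v} [CommRing S] {δ : ℕ} {p : MvPolynomial σ S}
    (hp : p.IsHomogeneous δ) : ∀ e ∈ p.support, e.degree ≤ δ := fun e he => by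
  by_contra h
  exact mem_support_iff.1 he (hp.coeff_eq_zero (fun h' => h (le_of_eq h')))

/-- affine substitution: the leading form is the linear substitution -/
theorem affine_subst {n j : ℕ} {S : Type v} [CommRing S] (A : Fin n → Fin j → S) (b : Fin n → S) {δ : ℕ}
    {Φ : MvPolynomial (Fin n) S} (hΦ : Φ.IsHomogeneous δ) :
    DegLT δ (aeval (fun i => (∑ a, C (A i a) * X a) + C (b i)) Φ -
      (aeval (fun i => ∑ a, C (A i a) * X a) Φ : MvPolynomial (Fin j) S)) := by
  classical
  set L : Fin n → MvPolynomial (Fin j) S := fun i => ∑ a, C (A i a) * X a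
  set M : Fin n → MvPolynomial (Fin j) S := fun i => L i + C (b i)
  have hL : ∀ i, (L i).IsHomogeneous 1 := fun i =>
    IsHomogeneous.sum _ _ _ fun a _ => (isHomogeneous_X S a).C_mul _
  have hM : ∀ i, ∀ e ∈ (M i).support, e.degree ≤ 1 := fun i e he => by
    rcases Finset.mem_union.1 (support_add he) with h | h
    · exact isHomogeneous_degree_le (hL i) e h
    · exact (isHomogeneous_degree_le (isHomogeneous_C _ _) e h).trans zero_le_one
  have hdiff : ∀ i, DegLT 1 (M i - L i) := fun i e he => by
    have : M i - L i = C (b i) := by simp [M]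
    rw [this] at he
    exact Nat.lt_succ_of_le (isHomogeneous_degree_le (isHomogeneous_C _ _) e he)
  have hpow : ∀ (i : Fin n) (r : ℕ), DegLT r (M i ^ r - L i ^ r) ∧ ∀ e ∈ (M i ^ r).support, e.degree ≤ r := by
    intro i r
    induction r with
    | zero =>
      refine ⟨by simp [DegLT.zero], fun e he => ?_⟩
      rw [pow_zero] at he
      exact isHomogeneous_degree_le (isHomogeneous_one _ _) e he
    | succ r ih =>
      refine ⟨?_, fun e he => ?_⟩
      · rw [show M i ^ (r + 1) - L i ^ (r + 1) = (M i ^ r - L i ^ r) * M i + (M i - L i) * L i ^ r by ring]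
        refine (ih.1.mul (hM i)).add ?_
        rw [add_comm r]
        exact (hdiff i).mul (isHomogeneous_degree_le (by simpa using (hL i).pow r))
      · rw [pow_succ] at he
        obtain ⟨a, ha, c, hc, rfl⟩ := Finset.mem_add.1 (support_mul _ _ he)
        rw [map_add]
        exact Nat.add_le_add (ih.2 a ha) (hM i c hc)
  have hprod : ∀ (s : Finset (Fin n)) (e : Fin n → ℕ), DegLT (∑ i ∈ s, e i) (∏ i ∈ s, M i ^ e i - ∏ i ∈ s, L i ^ e i) ∧
      ∀ g ∈ (∏ i ∈ s, M i ^ e i).support, g.degree ≤ ∑ i ∈ s, e i := by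
    intro s e
    induction s using Finset.induction_on with
    | empty => exact ⟨by simp [DegLT.zero], fun g hg => isHomogeneous_degree_le (isHomogeneous_one _ _) g (by simpa using hg)⟩
    | insert a s ha ih =>
      simp only [Finset.prod_insert ha, Finset.sum_insert ha]
      refine ⟨?_, fun g hg => ?_⟩
      · rw [show M a ^ e a * ∏ i ∈ s, M i ^ e i - L a ^ e a * ∏ i ∈ s, L i ^ e i =
          (M a ^ e a - L a ^ e a) * ∏ i ∈ s, M i ^ e i + (∏ i ∈ s, M i ^ e i - ∏ i ∈ s, L i ^ e i) * L a ^ e a by ring]
        refine ((hpow a (e a)).1.mul ih.2).add ?_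
        rw [add_comm (e a)]
        exact ih.1.mul (isHomogeneous_degree_le (by simpa using (hL a).pow (e a)))
      · obtain ⟨x, hx, y, hy, rfl⟩ := Finset.mem_add.1 (support_mul _ _ hg)
        rw [map_add]
        exact Nat.add_le_add ((hpow a (e a)).2 x hx) (ih.2 y hy)
  conv => arg 2; rw [Φ.as_sum, map_sum, map_sum, ← Finset.sum_sub_distrib]
  refine DegLT.sum _ fun e he => ?_
  rw [aeval_monomial, aeval_monomial, ← mul_sub, algebraMap_eq, Finsupp.prod_fintype _ _ (fun _ => pow_zero _),
    Finsupp.prod_fintype _ _ (fun _ => pow_zero _)]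
  intro g hg
  have hg' : g ∈ (∏ i, M i ^ e i - ∏ i, L i ^ e i).support := by
    rw [mem_support_iff] at hg ⊢
    intro h0
    exact hg (by rw [coeff_C_mul, h0, mul_zero])
  refine ((hprod Finset.univ e).1 g hg').trans_le (le_of_eq ?_)
  rw [← Finsupp.degree_eq_sum]
  by_contra hne
  exact mem_support_iff.1 he (hΦ.coeff_eq_zero hne)

/-- If the leading forms of a system have only the trivial zero, the solutions are integral. -/
theorem isIntegral_of_top {K : Type v} [Field K] [IsAlgClosed K] [Algebra E K] {S : Type*} [CommRing S] [Algebra E S]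
    {A : Type*} [CommRing A] [Algebra S A] {j : ℕ} {ι : Type} [Fintype ι] (δ : ι → ℕ)
    (T : ι → MvPolynomial (Fin j) E) (hT : ∀ i, (T i).IsHomogeneous (δ i))
    (h0 : ∀ l : Fin j → K, (∀ i, aeval l (T i) = 0) → l = 0)
    (h : ι → MvPolynomial (Fin j) S) (hh : ∀ i, DegLT (δ i) (h i - map (algebraMap E S) (T i)))
    (x : Fin j → A) (hx : ∀ i, aeval x (h i) = 0) (a : Fin j) : IsIntegral S (x a) := by
  classical
  have hrad : ∀ a : Fin j, X a ∈ (Ideal.span (Set.range T)).radical := fun a => by
    rw [← vanishingIdeal_zeroLocus_eq_radical (K := K)]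
    intro l hl
    have := h0 l fun i => hl (T i) (Ideal.subset_span ⟨i, rfl⟩)
    rw [this, aeval_X, Pi.zero_apply]
  choose μ₀ hμ₀ using hrad
  set μ := ∑ a, μ₀ a + ∑ i, δ i + 1 with hμ
  have hX : ∀ a : Fin j, ∃ c : ι → MvPolynomial (Fin j) E, (∀ i, (c i).IsHomogeneous (μ - δ i)) ∧
      (X a : MvPolynomial (Fin j) E) ^ μ = ∑ i, c i * T i := fun a => by
    have hle : μ₀ a ≤ μ := (Finset.single_le_sum (f := μ₀) (fun _ _ => Nat.zero_le _) (Finset.mem_univ a)).trans
      (by omega)
    have hmem : (X a : MvPolynomial (Fin j) E) ^ μ ∈ Ideal.span (Set.range T) := Ideal.pow_mem_of_pow_mem _ (hμ₀ a) hle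
    obtain ⟨c, hc⟩ := Ideal.mem_span_range_iff_exists_fun.1 hmem
    refine ⟨fun i => homogeneousComponent (μ - δ i) (c i), fun i => homogeneousComponent_isHomogeneous _ _, ?_⟩
    have e := congrArg (homogeneousComponent μ) hc
    rw [map_sum, homogeneousComponent_of_mem ((isHomogeneous_X_pow a μ : (X a ^ μ : MvPolynomial (Fin j) E).IsHomogeneous μ)),
      if_pos rfl] at e
    rw [← e]
    refine Finset.sum_congr rfl fun i _ => ?_
    have hδ : δ i ≤ μ := (Finset.single_le_sum (f := δ) (fun _ _ => Nat.zero_le _) (Finset.mem_univ i)).trans (by omega)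
    conv_lhs => rw [← sum_homogeneousComponent (c i), Finset.sum_mul, map_sum]
    rw [Finset.sum_eq_single (μ - δ i)]
    · rw [homogeneousComponent_of_mem ((homogeneousComponent_isHomogeneous _ _).mul (hT i)), if_pos (by omega)]
    · intro r _ hr
      rw [homogeneousComponent_of_mem ((homogeneousComponent_isHomogeneous _ _).mul (hT i)), if_neg (by omega)]
    · intro hnot
      rw [Finset.mem_range, not_lt, Nat.add_one_le_iff] at hnot
      rw [homogeneousComponent_eq_zero _ _ hnot, zero_mul, map_zero]
  choose c hc hXμ using hX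
  set D := j * μ + 1
  set gens : Set A := (fun e : Fin j →₀ ℕ => e.prod fun b r => x b ^ r) '' {e | e.degree < D}
  set M := Submodule.span S gens
  have hpoly : ∀ (P : MvPolynomial (Fin j) S), (∀ e ∈ P.support, (e.prod fun b r => x b ^ r) ∈ M) → aeval x P ∈ M := by
    intro P hP
    rw [P.as_sum, map_sum]
    refine sum_mem fun e he => ?_
    rw [aeval_monomial, ← Algebra.smul_def]
    exact M.smul_mem _ (hP e he)
  have hmon : ∀ N : ℕ, ∀ e : Fin j →₀ ℕ, e.degree = N → (e.prod fun b r => x b ^ r) ∈ M := by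
    intro N
    induction N using Nat.strong_induction_on with
    | h N ih =>
      intro e he
      by_cases hN : N < D
      · exact Submodule.subset_span ⟨e, by simpa [he] using hN, rfl⟩
      obtain ⟨b, hb⟩ : ∃ b, μ ≤ e b := by
        by_contra! hlt
        refine hN (Nat.lt_succ_of_le ?_)
        rw [← he, Finsupp.degree_eq_sum]
        exact (Finset.sum_le_card_nsmul _ _ μ fun b _ => (hlt b).le).trans (by simp)
      set e' := e - Finsupp.single b μ
      have hee : e' + Finsupp.single b μ = e := tsub_add_cancel_of_le (Finsupp.single_le_iff.2 hb)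
      have hdeg : e'.degree + μ = N := by
        rw [← he]; conv_rhs => rw [← hee, map_add, Finsupp.degree_single]
      let P : MvPolynomial (Fin j) S := monomial e' 1 * ∑ i, map (algebraMap E S) (c b i) *
        (h i - map (algebraMap E S) (T i))
      have hmap : ∑ i, map (algebraMap E S) (c b i) * map (algebraMap E S) (T i) = (X b : MvPolynomial (Fin j) S) ^ μ := by
        rw [← map_X (algebraMap E S) b, ← map_pow, hXμ b, map_sum]
        exact Finset.sum_congr rfl fun i _ => (map_mul _ _ _).symm
      have heq : (e.prod fun b r => x b ^ r) = -aeval x P := by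
        simp only [P, map_mul, map_sum, map_sub, hx, zero_sub, mul_neg, Finset.sum_neg_distrib, neg_neg]
        rw [aeval_monomial, map_one, one_mul]
        simp only [← map_mul]
        rw [← map_sum (aeval x), show (∑ x, map (algebraMap E S) (c b x * T x)) = (X b : MvPolynomial (Fin j) S) ^ μ by
          rw [← hmap]; exact Finset.sum_congr rfl fun i _ => map_mul _ _ _, map_pow, aeval_X, ← hee,
          Finsupp.prod_add_index' (fun _ => pow_zero _) (fun _ _ _ => pow_add _ _ _),
          Finsupp.prod_single_index (h := fun b r => x b ^ r) (pow_zero _)]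
      rw [heq]
      refine neg_mem (hpoly P fun g hg => ih g.degree ?_ g rfl)
      obtain ⟨g₁, hg₁, g₂, hg₂, rfl⟩ := Finset.mem_add.1 (support_mul _ _ hg)
      obtain ⟨i, -, hi⟩ := Finset.mem_biUnion.1 (support_sum hg₂)
      have h₁ := support_monomial_subset hg₁
      rw [Finset.mem_singleton] at h₁
      rw [mul_comm] at hi
      have h₂ := (hh i).mul (isHomogeneous_degree_le ((hc b i).map (algebraMap E S))) g₂ hi
      have hδ : δ i ≤ μ := (Finset.single_le_sum (f := δ) (fun _ _ => Nat.zero_le _) (Finset.mem_univ i)).trans (by omega)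
      rw [map_add, h₁, ← hdeg]
      omega
  refine IsIntegral.of_mem_of_fg (Algebra.adjoin S (Set.range x)) ?_ _ (Algebra.subset_adjoin ⟨a, rfl⟩)
  have hgens : gens.Finite := by
    refine Set.Finite.image _ ((Finset.finite_toSet ((Finset.range D).biUnion fun r =>
      (Finset.univ : Finset (Fin j)).finsuppAntidiag r)).subset ?_)
    intro e he
    rw [Finset.mem_coe, Finset.mem_biUnion]
    exact ⟨e.degree, Finset.mem_range.2 he, by simp [Finset.mem_finsuppAntidiag, Finsupp.degree_eq_sum]⟩
  have heq : Subalgebra.toSubmodule (Algebra.adjoin S (Set.range x)) = M := by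
    refine le_antisymm (fun y hy => ?_) (Submodule.span_le.2 ?_)
    · obtain ⟨P, rfl⟩ := (Algebra.adjoin_range_eq_range_aeval S x ▸ hy : y ∈ (aeval x : MvPolynomial (Fin j) S →ₐ[S] A).range)
      exact hpoly P fun e _ => hmon _ e rfl
    · rintro _ ⟨e, -, rfl⟩
      exact (Subalgebra.mem_toSubmodule _).2 (prod_mem fun b _ => pow_mem (Algebra.subset_adjoin (Set.mem_range_self b)) _)
  rw [heq]
  exact Submodule.fg_span hgens

open scoped IntermediateField.algebraAdjoinAdjoin in
/-- An independent family algebraic over `r` elements has at most `r` members. -/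
theorem card_le_of_isAlgebraic {k K : Type u} [Field k] [Field K] [Algebra k K] {ι κ : Type} [Fintype ι] [Fintype κ]
    (c : ι → K) (hc : AlgebraicIndependent k c) (γ : κ → K)
    (halg : ∀ i, IsAlgebraic (IntermediateField.adjoin k (Set.range γ)) (c i)) :
    Fintype.card ι ≤ Fintype.card κ := by
  set E0 := IntermediateField.adjoin k (Set.range γ)
  set Z := algebraicClosure E0 K
  have h1 : Cardinal.lift.{u} #ι ≤ Cardinal.lift.{0} (Algebra.trdeg k Z) := by
    have hc' : AlgebraicIndependent k (fun i => (⟨c i, mem_algebraicClosure_iff.2 (halg i)⟩ : Z)) :=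
      AlgebraicIndependent.of_comp (Z.val.restrictScalars k) (by exact hc)
    exact hc'.lift_cardinalMk_le_trdeg
  have h2 : Algebra.trdeg k Z = Algebra.trdeg k E0 := by
    haveI : FaithfulSMul E0 Z := (faithfulSMul_iff_algebraMap_injective _ _).2 (RingHom.injective (algebraMap E0 Z))
    rw [← trdeg_add_eq k E0 (A := Z), trdeg_eq_zero (R := E0) (A := Z), add_zero]
  have h3 : Algebra.trdeg k E0 = Algebra.trdeg k (Algebra.adjoin k (Set.range γ)) := by
    haveI : Algebra.IsAlgebraic (Algebra.adjoin k (Set.range γ)) E0 :=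
      IsLocalization.isAlgebraic E0 (nonZeroDivisors (Algebra.adjoin k (Set.range γ)))
    rw [← trdeg_add_eq k (Algebra.adjoin k (Set.range γ)) (A := E0),
      trdeg_eq_zero (R := Algebra.adjoin k (Set.range γ)) (A := E0), add_zero]
  let π : MvPolynomial κ k →ₐ[k] Algebra.adjoin k (Set.range γ) :=
    (aeval γ).codRestrict _ fun P => by rw [Algebra.adjoin_range_eq_range_aeval]; exact ⟨P, rfl⟩
  have hπ : Function.Surjective π := fun ⟨y, hy⟩ => by
    rw [Algebra.adjoin_range_eq_range_aeval] at hy
    obtain ⟨P, rfl⟩ := hy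
    exact ⟨P, rfl⟩
  have h4 := lift_trdeg_le_of_surjective π hπ
  rw [MvPolynomial.trdeg_of_isDomain] at h4
  rw [h2, h3] at h1
  simp only [Cardinal.mk_fintype, Cardinal.lift_natCast, Cardinal.lift_uzero, Cardinal.lift_id] at h1 h4
  exact_mod_cast h1.trans h4

end Groth.Agent.ConeLines
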