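import Groth.Agent.ConeLines.Alg
import Groth.Agent.VarDim.Basic
import Groth.Prelude.Def_LefPen
import Groth.Prelude.Def_W4c2ratcurvhypCodim

/-! The cone of lines through a point and the height of its ideal. -/

namespace Groth.Agent.ConeLines

open MvPolynomial

universe u

variable {K : Type u} [Field K] {n d : ℕ}

/-- the point of the chart -/
def pt (i₀ : Fin (n + 1)) (v : Fin n → K) : Fin (n + 1) → K := Fin.insertNth i₀ 1 v

/-- inclusion of the hyperplane `x_{i₀} = 0` -/
def incl (i₀ : Fin (n + 1)) (j : Fin (n + 1)) (a : Fin n) : K := if j = i₀.succAbove a then 1 else 0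

/-- the equation of the hypersurface around the point -/
noncomputable def loc (i₀ : Fin (n + 1)) (v : Fin n → K) :
    MvPolynomial (Fin (n + 1)) K →ₐ[K] MvPolynomial (Fin n) K :=
  aeval fun j => (∑ a, C (incl i₀ j a) * X a) + C (pt i₀ v j)

theorem sum_incl (i₀ : Fin (n + 1)) (x : Fin n → K) :
    (fun j => ∑ a, incl i₀ j a * x a) = Fin.insertNth i₀ 0 x := by
  funext j
  induction j using Fin.succAboveCases i₀ with
  | x => simp [incl]
  | p a => simp [incl]

theorem eval_aeval {σ τ : Type*} {S : Type*} [CommRing S] (f : σ → MvPolynomial τ S) (x : τ → S) (P : MvPolynomial σ S) :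
    eval x (aeval f P) = eval (fun j => eval x (f j)) P := by
  induction P using MvPolynomial.induction_on with
  | C a => simp
  | add p q hp hq => simp only [map_add, hp, hq]
  | mul_X p i hp => simp only [map_mul, aeval_X, eval_X, hp]

theorem eval_smul' {σ : Type*} {S : Type*} [CommRing S] {δ : ℕ} {P : MvPolynomial σ S} (hP : P.IsHomogeneous δ)
    (τ : S) (x : σ → S) : eval (τ • x) P = τ ^ δ * eval x P := by
  rw [eval_eq, eval_eq, Finset.mul_sum]
  refine Finset.sum_congr rfl fun e he => ?_
  have hd : e.degree = δ := by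
    by_contra h
    exact mem_support_iff.1 he (hP.coeff_eq_zero h)
  simp only [Pi.smul_apply, smul_eq_mul, mul_pow, Finset.prod_mul_distrib, Finset.prod_pow_eq_pow_sum]
  rw [show (∑ i ∈ e.support, e i) = δ from hd]
  ring

theorem eval_loc (i₀ : Fin (n + 1)) (v x : Fin n → K) (Φ : MvPolynomial (Fin (n + 1)) K) :
    eval x (loc i₀ v Φ) = eval (Fin.insertNth i₀ 1 (v + x)) Φ := by
  rw [loc, eval_aeval]
  refine congrArg (fun f => eval f Φ) (funext fun j => ?_)
  simp only [map_add, map_sum, map_mul, eval_C, eval_X]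
  rw [congrFun (sum_incl i₀ x) j]
  induction j using Fin.succAboveCases i₀ with
  | x => simp [pt]
  | p a => simp [pt]; ring

theorem isHomogeneous_linear {S : Type*} [CommRing S] {m j : ℕ} (A : Fin m → Fin j → S) {δ : ℕ}
    {f : MvPolynomial (Fin m) S} (hf : f.IsHomogeneous δ) :
    (aeval (fun i => ∑ a, C (A i a) * X a) f : MvPolynomial (Fin j) S).IsHomogeneous δ := by
  simpa using hf.aeval (m := δ) (n := 1) (g := fun i => ∑ a, C (A i a) * X a)
    (fun i => IsHomogeneous.sum _ _ _ fun a _ => (isHomogeneous_X S a).C_mul _)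

theorem totalDegree_loc (i₀ : Fin (n + 1)) (v : Fin n → K) {Φ : MvPolynomial (Fin (n + 1)) K}
    (hΦ : Φ.IsHomogeneous d) : (loc i₀ v Φ).totalDegree ≤ d := by
  classical
  refine Finset.sup_le fun e he => ?_
  show e.degree ≤ d
  set top : MvPolynomial (Fin n) K := aeval (fun j => ∑ a, C (incl i₀ j a) * X a) Φ
  have he' : e ∈ ((loc i₀ v Φ - top) + top).support := by rwa [sub_add_cancel]
  rcases Finset.mem_union.1 (support_add he') with h | h
  · exact (affine_subst _ _ hΦ e h).le
  · exact isHomogeneous_degree_le (isHomogeneous_linear _ hΦ) e h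

/-- the lines through the point: the homogeneous parts -/
noncomputable def part (i₀ : Fin (n + 1)) (v : Fin n → K) (Φ : MvPolynomial (Fin (n + 1)) K) (i : ℕ) :
    MvPolynomial (Fin n) K := homogeneousComponent i (loc i₀ v Φ)

/-- some linear `d`-space misses the cone -/
def HasSub (i₀ : Fin (n + 1)) (v : Fin n → K) (d : ℕ) (Φ : MvPolynomial (Fin (n + 1)) K) : Prop :=
  ∃ A : Fin n → Fin d → K, ∀ l : Fin d → K,
    (∀ i, 1 ≤ i → i ≤ d → eval (fun a => ∑ b, A a b * l b) (part i₀ v Φ i) = 0) → l = 0

theorem eval_zero_part (i₀ : Fin (n + 1)) (v : Fin n → K) (Φ : MvPolynomial (Fin (n + 1)) K) {i : ℕ} (hi : i ≠ 0) :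
    eval (0 : Fin n → K) (part i₀ v Φ i) = 0 := by
  rw [eval_zero, constantCoeff_eq, part, coeff_homogeneousComponent, if_neg (by simpa using hi.symm)]

theorem eval_part_eq_zero [Infinite K] (i₀ : Fin (n + 1)) (v x : Fin n → K) {Φ : MvPolynomial (Fin (n + 1)) K}
    (hΦ : Φ.IsHomogeneous d) (h : ∀ τ : K, eval (Fin.insertNth i₀ 1 (v + τ • x)) Φ = 0) (i : ℕ) :
    eval x (part i₀ v Φ i) = 0 := by
  classical
  by_cases hi : d < i
  · rw [part, homogeneousComponent_eq_zero _ _ ((totalDegree_loc i₀ v hΦ).trans_lt hi), map_zero]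
  have hhom : ∀ r τ, eval (τ • x) (part i₀ v Φ r) = τ ^ r * eval x (part i₀ v Φ r) := fun r τ =>
    eval_smul' (homogeneousComponent_isHomogeneous r (loc i₀ v Φ)) τ x
  have hpoly : (∑ r ∈ Finset.range (d + 1), Polynomial.C (eval x (part i₀ v Φ r)) * Polynomial.X ^ r) = 0 := by
    refine Polynomial.funext fun τ => ?_
    rw [Polynomial.eval_zero, ← h τ, ← eval_loc i₀ v (τ • x)]
    have e : loc i₀ v Φ = ∑ r ∈ Finset.range (d + 1), part i₀ v Φ r := by
      rw [← sum_homogeneousComponent (loc i₀ v Φ)]
      refine Finset.sum_subset ?_ fun r _ hr => ?_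
      · exact Finset.range_mono (Nat.add_le_add_right (totalDegree_loc i₀ v hΦ) 1)
      · rw [Finset.mem_range, not_lt, Nat.add_one_le_iff] at hr
        exact homogeneousComponent_eq_zero _ _ hr
    rw [e, map_sum, Polynomial.eval_finsetSum]
    exact Finset.sum_congr rfl fun r _ => by rw [hhom]; simp; ring
  have := congrArg (Polynomial.coeff · i) hpoly
  simp only [Polynomial.finsetSum_coeff, Polynomial.coeff_C_mul_X_pow, Polynomial.coeff_zero] at this
  rw [Finset.sum_ite_eq, if_pos (Finset.mem_range.2 (by omega))] at this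
  exact this

/-- complete an injective matrix to an invertible one -/
theorem exists_split {F : Type*} [Field F] {n j : ℕ} (A : Matrix (Fin n) (Fin j) F) (hA : ∀ l, A.mulVec l = 0 → l = 0) :
    j ≤ n ∧ ∃ (B : Matrix (Fin n) (Fin (n - j)) F) (L : Matrix (Fin j) (Fin n) F) (q : Matrix (Fin (n - j)) (Fin n) F),
      A * L + B * q = 1 ∧ q * A = 0 ∧ q * B = 1 := by
  have hinj : Function.Injective A.mulVecLin := LinearMap.ker_eq_bot.1 (LinearMap.ker_eq_bot'.2 hA)
  have hrange : Module.finrank F (LinearMap.range A.mulVecLin) = j :=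
    (LinearMap.finrank_range_of_inj hinj).trans (Module.finrank_fin_fun F)
  have hjn : j ≤ n := by
    rw [← hrange]; exact (Submodule.finrank_le _).trans_eq (Module.finrank_fin_fun F)
  obtain ⟨W, hW⟩ := Submodule.exists_isCompl (LinearMap.range A.mulVecLin)
  have hWdim : Module.finrank F W = n - j := by
    have := Submodule.finrank_add_eq_of_isCompl hW
    rw [hrange, Module.finrank_fin_fun] at this
    omega
  let bW := Module.finBasisOfFinrankEq F W hWdim
  let Bl : (Fin (n - j) → F) →ₗ[F] (Fin n → F) := W.subtype ∘ₗ bW.equivFun.symm.toLinearMap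
  let e : ((Fin j → F) × (Fin (n - j) → F)) ≃ₗ[F] (Fin n → F) :=
    ((LinearEquiv.ofInjective A.mulVecLin hinj).prodCongr bW.equivFun.symm).trans
      (Submodule.prodEquivOfIsCompl _ _ hW)
  have he : ∀ p, e p = A.mulVecLin p.1 + Bl p.2 := fun p => by simp [e, Bl]
  refine ⟨hjn, LinearMap.toMatrix' Bl, LinearMap.toMatrix' ((LinearMap.fst F _ _) ∘ₗ e.symm.toLinearMap),
    LinearMap.toMatrix' ((LinearMap.snd F _ _) ∘ₗ e.symm.toLinearMap), ?_, ?_, ?_⟩
  · apply Matrix.toLin'.injective
    refine LinearMap.ext fun x => ?_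
    simp only [map_add, LinearMap.add_apply, Matrix.toLin'_mul, Matrix.toLin'_toMatrix', LinearMap.comp_apply,
      Matrix.toLin'_one, LinearMap.id_apply, Matrix.toLin'_apply]
    have := he (e.symm x)
    rw [e.apply_symm_apply] at this
    exact this.symm
  · apply Matrix.toLin'.injective
    refine LinearMap.ext fun l => ?_
    simp only [Matrix.toLin'_mul, Matrix.toLin'_toMatrix', LinearMap.comp_apply, map_zero, LinearMap.zero_apply,
      LinearEquiv.coe_coe, LinearMap.snd_apply]
    have : e.symm (A.mulVecLin l) = (l, 0) := by rw [LinearEquiv.symm_apply_eq, he]; simp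
    rw [Matrix.toLin'_apply', this]
  · apply Matrix.toLin'.injective
    refine LinearMap.ext fun c => ?_
    simp only [Matrix.toLin'_mul, Matrix.toLin'_toMatrix', LinearMap.comp_apply, Matrix.toLin'_one, LinearMap.id_apply,
      LinearEquiv.coe_coe, LinearMap.snd_apply]
    have : e.symm (Bl c) = (0, c) := by rw [LinearEquiv.symm_apply_eq, he]; simp
    rw [this]

theorem height_ge {R : Type u} [CommRing R] [IsDomain R] [Algebra K R] [Algebra.FiniteType K R] {N r : ℕ}
    (hR : ringKrullDim R = N) (P : Ideal R) [P.IsPrime] (hP : ringKrullDim (R ⧸ P) ≤ r) : ((N - r : ℕ) : ℕ∞) ≤ P.height := by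
  have h := VarDim.height_add_coheight_eq K N R hR ⟨P, ‹_›⟩
  have hco : Order.coheight (⟨P, ‹_›⟩ : PrimeSpectrum R) ≤ (r : ℕ∞) := by
    have := hP
    rw [← VarDim.coheight_eq_ringKrullDim_quotient ⟨P, ‹_›⟩] at this
    exact WithBot.coe_le_coe.1 this
  rw [← PrimeSpectrum.height_eq_orderHeight] at h
  show _ ≤ (⟨P, ‹_›⟩ : PrimeSpectrum R).asIdeal.height
  obtain ⟨a, ha⟩ := ENat.ne_top_iff_exists.1 (ne_top_of_le_ne_top (ENat.natCast_ne_top r) hco)
  rw [← ha] at h hco
  have ha' : a ≤ r := by exact_mod_cast hco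
  generalize (⟨P, ‹_›⟩ : PrimeSpectrum R).asIdeal.height = q at h ⊢
  cases q with
  | top => exact le_top
  | coe q => norm_cast at h ⊢; omega

theorem ringKrullDim_le_of_integral {S Q : Type u} [CommRing S] [CommRing Q] [Algebra S Q] [Algebra.IsIntegral S Q] :
    ringKrullDim Q ≤ ringKrullDim S :=
  Order.krullDim_le_of_strictMono (PrimeSpectrum.comap (algebraMap S Q)) fun I J hIJ => by
    obtain ⟨x, hxJ, hxI⟩ := SetLike.exists_of_lt (show I.asIdeal < J.asIdeal from hIJ)
    exact Ideal.comap_lt_comap_of_integral_mem_sdiff hIJ.le ⟨hxJ, hxI⟩ (Algebra.IsIntegral.isIntegral x)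

/-- A linear space missing the cone bounds its codimension. -/
theorem codimGE_of_hasSub [IsAlgClosed K] (i₀ : Fin (n + 1)) (v : Fin n → K) {Φ : MvPolynomial (Fin (n + 1)) K}
    (hΦ : Φ.IsHomogeneous d) (hsub : HasSub i₀ v d Φ) :
    LefPen.CodimGE K {w : Fin (n + 1) → K | ∀ s t : K, eval (s • pt i₀ v + t • w) Φ = 0} d := by
  classical
  obtain ⟨A, hA⟩ := hsub
  obtain ⟨hdn, B, L, q, hAB, -, -⟩ := exists_split (Matrix.of A) fun l hl => hA l fun i hi _ => by
    rw [show (fun a => ∑ b, A a b * l b) = 0 from hl]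
    exact eval_zero_part i₀ v Φ (by omega)
  let R := MvPolynomial (Fin (n + 1)) K
  let x : Fin n → R := fun a => X (i₀.succAbove a) - C (v a) * X i₀
  let Cone := {w : Fin (n + 1) → K | ∀ s t : K, eval (s • pt i₀ v + t • w) Φ = 0}
  -- polynomial functions
  let ψ : R →ₐ[K] ↥(LefPen.polyFunAlg K (Fin (n + 1) → K)) :=
    aeval fun j => ⟨fun w => w j, Algebra.subset_adjoin ⟨LinearMap.proj j, rfl⟩⟩
  have hψ : ∀ p w, (ψ p).1 w = eval w p := fun p w => by
    induction p using MvPolynomial.induction_on with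
    | C a => rw [show ψ (C a) = algebraMap K _ a from aeval_C _ _, eval_C]; rfl
    | add p q hp hq => simp [map_add, hp, hq]
    | mul_X p i hp => simp only [map_mul, eval_X, Subalgebra.coe_mul, Pi.mul_apply, hp]; rw [show ψ (X i) = _ from aeval_X _ _]
  have hψbij : Function.Bijective ψ := by
    refine ⟨fun p q h => MvPolynomial.funext fun w => by rw [← hψ, ← hψ, h], fun ⟨f, hf⟩ => ?_⟩
    have : f ∈ (((LefPen.polyFunAlg K (Fin (n + 1) → K)).val.comp ψ).range) := by
      refine Algebra.adjoin_le ?_ hf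
      rintro _ ⟨l, rfl⟩
      refine ⟨∑ j, C (l (Pi.single j 1)) * X j, funext fun w => ?_⟩
      show (ψ (∑ j, C (l (Pi.single j 1)) * X j)).1 w = l w
      rw [hψ]
      conv_rhs => rw [pi_eq_sum_univ' w, map_sum]
      simp [mul_comm]
    obtain ⟨p, hp⟩ := this
    exact ⟨p, Subtype.ext hp⟩
  let e := (AlgEquiv.ofBijective ψ hψbij).toRingEquiv
  unfold LefPen.CodimGE
  rw [← e.height_comap]
  set I := (LefPen.vanishingFun K Cone).comap e
  -- the equations of the cone
  have hP : ∀ i, aeval x (part i₀ v Φ i) ∈ I := fun i => by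
    show ∀ w ∈ Cone, (ψ (aeval x (part i₀ v Φ i))).1 w = 0
    intro w hw
    rw [hψ, eval_aeval]
    refine eval_part_eq_zero i₀ v _ hΦ (fun τ => ?_) i
    refine Eq.trans (congrArg (fun f => eval f Φ) ?_) (hw (1 - τ * w i₀) τ)
    funext j
    induction j using Fin.succAboveCases i₀ with
    | x => simp [pt]
    | p a => simp [pt, x]; ring
  rw [Ideal.height_eq_inf_minimalPrimes]
  refine le_iInf₂ fun P hmin => ?_
  haveI : P.IsPrime := hmin.1.1
  have hIP : I ≤ P := hmin.1.2
  set π : R →ₐ[K] R ⧸ P := Ideal.Quotient.mkₐ K P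
  -- the coordinates off the linear space
  let z : Option (Fin (n - d)) → R ⧸ P := fun o => o.elim (π (X i₀)) fun t => π (∑ a, C (q t a) * x a)
  let S : Subalgebra K (R ⧸ P) := (aeval z : MvPolynomial (Option (Fin (n - d))) K →ₐ[K] R ⧸ P).range
  have hzS : ∀ o, z o ∈ S := fun o => ⟨X o, aeval_X _ _⟩
  let ρ : Fin n → S := fun a => ∑ t, algebraMap K S (B a t) * ⟨z (some t), hzS _⟩
  let xl : Fin d → R ⧸ P := fun b => π (∑ a, C (L b a) * x a)
  have hx : ∀ a, π (x a) = ∑ b, algebraMap K (R ⧸ P) (A a b) * xl b + (ρ a : R ⧸ P) := by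
    intro a
    have hcoe : (ρ a : R ⧸ P) = ∑ t, algebraMap K (R ⧸ P) (B a t) * z (some t) := by simp [ρ]
    rw [hcoe]
    simp only [z, xl, Option.elim, ← AlgHom.commutes π, ← map_mul, ← map_sum, ← map_add]
    refine congrArg π ?_
    simp only [Finset.mul_sum, ← mul_assoc, ← map_mul, R, algebraMap_eq]
    rw [Finset.sum_comm, Finset.sum_comm (s := (Finset.univ : Finset (Fin (n - d))))]
    simp only [← Finset.sum_add_distrib, ← Finset.sum_mul, ← map_sum, ← map_add]
    have h1 : ∀ a', (∑ b, A a b * L b a') + ∑ t, B a t * q t a' = if a = a' then 1 else 0 := fun a' => by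
      have := congrFun (congrFun hAB a) a'
      rw [Matrix.add_apply, Matrix.mul_apply, Matrix.mul_apply, Matrix.one_apply] at this
      exact this
    simp only [← add_mul, ← map_add, h1]
    simp [apply_ite (C : K → R)]
  let T : Fin d → MvPolynomial (Fin d) K := fun i => aeval (fun a => ∑ b, C (A a b) * X b) (part i₀ v Φ (i + 1))
  let h : Fin d → MvPolynomial (Fin d) S := fun i =>
    aeval (fun a => (∑ b, C (algebraMap K S (A a b)) * X b) + C (ρ a)) (map (algebraMap K S) (part i₀ v Φ (i + 1)))
  have hxl : ∀ i, aeval xl (h i) = 0 := fun i => by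
    have e : (aeval xl).toRingHom.comp ((aeval fun a => (∑ b, C (algebraMap K S (A a b)) * X b) + C (ρ a) :
        MvPolynomial (Fin n) S →ₐ[S] MvPolynomial (Fin d) S).toRingHom.comp (map (algebraMap K S))) =
        π.toRingHom.comp (aeval x).toRingHom := by
      refine MvPolynomial.ringHom_ext (fun r => ?_) fun a => ?_
      · simp [← IsScalarTower.algebraMap_apply]
      · simp [hx a, ← IsScalarTower.algebraMap_apply]
    exact (RingHom.congr_fun e _).trans (Ideal.Quotient.eq_zero_iff_mem.2 (hIP (hP _)))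
  have hint : ∀ b, IsIntegral S (xl b) := isIntegral_of_top (E := K) (K := K) (fun i : Fin d => (i : ℕ) + 1) T
    (fun i => isHomogeneous_linear _ (homogeneousComponent_isHomogeneous _ _))
    (fun l hl => hA l fun i hi hid => by
      have := hl ⟨i - 1, by omega⟩
      simp only [T, show i - 1 + 1 = i by omega, aeval_eq_eval] at this
      rw [eval_aeval] at this
      simpa using this)
    h (fun i => by
      have := affine_subst (fun a b => algebraMap K S (A a b)) ρ
        ((homogeneousComponent_isHomogeneous ((i : ℕ) + 1) (loc i₀ v Φ)).map (algebraMap K S))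
      have e : map (algebraMap K S) (T i) =
          aeval (fun a => ∑ b, C (algebraMap K S (A a b)) * X b) (map (algebraMap K S) (part i₀ v Φ (i + 1))) := by
        simp only [T]
        induction part i₀ v Φ ((i : ℕ) + 1) using MvPolynomial.induction_on with
        | C r => simp
        | add p q hp hq => simp only [map_add, hp, hq]
        | mul_X p j hp => simp only [map_mul, hp, aeval_X, map_X, map_sum, map_C]
      rw [e]
      exact this)
    xl hxl
  haveI : Algebra.IsIntegral S (R ⧸ P) := ⟨fun y => by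
    obtain ⟨p, rfl⟩ := Ideal.Quotient.mkₐ_surjective K P y
    show IsIntegral S (π p)
    have hc : ∀ s : S, IsIntegral S (s : R ⧸ P) := fun s => isIntegral_algebraMap (x := s)
    induction p using MvPolynomial.induction_on with
    | C r =>
      have : π (C r) = ((algebraMap K S r : S) : R ⧸ P) := π.commutes r
      rw [this]; exact hc _
    | add p q hp hq => rw [map_add]; exact hp.add hq
    | mul_X p j hp =>
      rw [map_mul]
      refine hp.mul ?_
      induction j using Fin.succAboveCases i₀ with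
      | x => exact hc ⟨z none, hzS none⟩
      | p a =>
        have e : π (X (i₀.succAbove a)) = π (x a) + ((algebraMap K S (v a) : S) : R ⧸ P) * z none := by
          have : ((algebraMap K S (v a) : S) : R ⧸ P) = π (C (v a)) := (π.commutes (v a)).symm
          rw [this]
          simp [x, z]
        rw [e, hx]
        refine ((IsIntegral.sum _ fun b _ => ?_).add (hc _)).add ((hc _).mul (hc ⟨z none, hzS none⟩))
        exact IsIntegral.mul (hc (algebraMap K S (A a b))) (hint b)⟩
  have hS : ringKrullDim S ≤ (n - d + 1 : ℕ) := by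
    refine (ringKrullDim_le_of_surjective _ (aeval z : MvPolynomial (Option (Fin (n - d))) K →ₐ[K] R ⧸ P).rangeRestrict_surjective).trans ?_
    rw [MvPolynomial.ringKrullDim_of_isNoetherianRing, ringKrullDim_eq_zero_of_field, zero_add]
    simp
  have := height_ge (K := K) (R := R) (N := n + 1) (r := n - d + 1)
    (by rw [MvPolynomial.ringKrullDim_of_isNoetherianRing, ringKrullDim_eq_zero_of_field, zero_add]; simp) P
    ((ringKrullDim_le_of_integral (S := S)).trans hS)
  rwa [show n + 1 - (n - d + 1) = d by omega] at this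

end Groth.Agent.ConeLines
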