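import Groth.Agent.ConeLines.Cone
import Groth.Agent.PlaneParam.Param

/-! For a form with independent coefficients some linear space misses every cone of lines. -/

namespace Groth.Agent.ConeLines

open MvPolynomial

universe u

variable {n d : ℕ}

/-- exponents of degree `1, …, d` off the chart index -/
abbrev Mon (n d : ℕ) := {e : Fin n →₀ ℕ // 1 ≤ e.degree ∧ e.degree ≤ d}

theorem finite_deg_le (n d : ℕ) : {e : Fin n →₀ ℕ | e.degree ≤ d}.Finite :=
  ((Finset.range (d + 1)).biUnion fun r => (Finset.univ : Finset (Fin n)).finsuppAntidiag r).finite_toSet.subset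
    fun e he => by
      rw [Finset.mem_coe, Finset.mem_biUnion]
      exact ⟨e.degree, Finset.mem_range.2 (Nat.lt_succ_of_le he),
        by simp [Finset.mem_finsuppAntidiag, Finsupp.degree_eq_sum]⟩

noncomputable instance : Fintype (Mon n d) := by
  haveI : Finite (Mon n d) := ((finite_deg_le n d).subset fun e he => he.2).to_subtype
  exact Fintype.ofFinite _

theorem card_mon (n d : ℕ) : Fintype.card (Mon n d) + 1 = (n + d).choose d := by
  classical
  rw [← PlaneParam.card_exps n d, ← Fintype.card_option]
  refine Fintype.card_congr (Equiv.ofBijective (fun o : Option (Mon n d) => (⟨Finsupp.cons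
    (d - (o.elim 0 Subtype.val).degree) (o.elim 0 Subtype.val), ?_⟩ : PlaneParam.Exps n d)) ⟨?_, ?_⟩)
  · have hle : (o.elim 0 Subtype.val).degree ≤ d := by cases o with | none => simp | some e => exact e.2.2
    rw [Finsupp.degree_eq_sum, Fin.sum_univ_succ]
    simp only [Finsupp.cons_zero, Finsupp.cons_succ, ← Finsupp.degree_eq_sum]
    omega
  · intro o o' h
    have h' : (o.elim 0 Subtype.val : Fin n →₀ ℕ) = o'.elim 0 Subtype.val := by
      ext a
      simpa using congrArg (fun e : PlaneParam.Exps n d => e.1 a.succ) h
    match o, o' with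
    | none, none => rfl
    | none, some e => exact absurd (congrArg Finsupp.degree h') (by have := e.2.1; simp; omega)
    | some e, none => exact absurd (congrArg Finsupp.degree h') (by have := e.2.1; simp; omega)
    | some e, some e' => exact congrArg some (Subtype.ext h')
  · intro e
    have hsum : e.1 0 + (Finsupp.tail e.1).degree = d := by
      have := e.2
      rw [Finsupp.degree_eq_sum, Fin.sum_univ_succ] at this
      rw [Finsupp.degree_eq_sum]
      exact this
    by_cases h0 : (Finsupp.tail e.1).degree = 0
    · refine ⟨none, Subtype.ext ?_⟩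
      have ht : Finsupp.tail e.1 = 0 := (Finsupp.degree_eq_zero_iff _).1 h0
      show Finsupp.cons (d - (0 : Fin n →₀ ℕ).degree) 0 = e.1
      conv_rhs => rw [← Finsupp.cons_tail e.1, ht]
      rw [map_zero, show d - 0 = e.1 0 by omega]
    · refine ⟨some ⟨Finsupp.tail e.1, by omega, by omega⟩, Subtype.ext ?_⟩
      show Finsupp.cons (d - (Finsupp.tail e.1).degree) (Finsupp.tail e.1) = e.1
      rw [show d - (Finsupp.tail e.1).degree = e.1 0 by omega, Finsupp.cons_tail]

theorem le_choose {n r : ℕ} (h1 : 1 ≤ r) (h2 : r < n) : n ≤ n.choose r := by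
  induction n generalizing r with
  | zero => omega
  | succ m ih =>
    obtain ⟨r, rfl⟩ := Nat.exists_eq_add_of_le' h1
    rw [Nat.choose_succ_succ]
    rcases Nat.eq_or_lt_of_le (Nat.lt_succ_iff.1 h2) with heq | hlt
    · rw [← heq, Nat.choose_succ_self_right]; simp
    · have := ih (r := r + 1) (by omega) hlt
      have := Nat.choose_pos (show r ≤ m by omega)
      show m + 1 ≤ m.choose r + m.choose (r + 1)
      omega

variable {k : Type u} [Field k] [Infinite k]

/-- points imposing independent conditions on forms -/
theorem exists_points {m r t : ℕ} (hm : 1 ≤ m) (ht : t ≤ (m - 1 + r).choose r) :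
    ∃ (c : Fin t → Fin m → k) (G : Fin t → MvPolynomial (Fin m) k),
      (∀ a, (G a).IsHomogeneous r) ∧ ∀ a b, eval (c b) (G a) = if a = b then 1 else 0 := by
  classical
  obtain ⟨m, rfl⟩ := Nat.exists_eq_add_of_le' hm
  rw [Nat.add_sub_cancel] at ht
  let V := PlaneParam.Exps m r → k
  let ev : (Fin (m + 1) → k) → Module.Dual k V := fun x =>
    ∑ e : PlaneParam.Exps m r, (eval x (monomial e.1 1)) • LinearMap.proj e
  have hev : ∀ x w, ev x w = eval x (∑ e : PlaneParam.Exps m r, monomial e.1 (w e)) := fun x w => by
    simp [ev, LinearMap.sum_apply, eval_monomial]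
    exact Finset.sum_congr rfl fun e _ => mul_comm _ _
  have hspan : Submodule.span k (Set.range ev) = ⊤ := by
    by_contra hne
    obtain ⟨φ, hφ, hle⟩ := (Submodule.span k (Set.range ev)).exists_le_ker_of_lt_top (lt_top_iff_ne_top.2 hne)
    obtain ⟨w, rfl⟩ := (Module.bijective_dual_eval k V).2 φ
    refine hφ ?_
    have hzero : ∑ e : PlaneParam.Exps m r, monomial e.1 (w e) = 0 := MvPolynomial.funext fun x => by
      rw [map_zero, ← hev]
      exact hle (Submodule.subset_span ⟨x, rfl⟩)
    have : w = 0 := funext fun e => by
      have := congrArg (coeff e.1) hzero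
      simp only [coeff_sum, coeff_monomial, coeff_zero] at this
      rwa [Finset.sum_eq_single e (fun b _ hb => if_neg fun h => hb (Subtype.ext h)) (by simp), if_pos rfl] at this
    rw [this, map_zero]
  obtain ⟨κ, a, ha, hspan', hli⟩ := exists_linearIndependent' k ev
  haveI : Finite κ := LinearIndependent.finite hli
  haveI := Fintype.ofFinite κ
  have hcard : Fintype.card κ = (m + r).choose r := by
    rw [← finrank_span_eq_card hli, hspan', hspan, finrank_top, Subspace.dual_finrank_eq,
      Module.finrank_fintype_fun_eq_card, PlaneParam.card_exps]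
  obtain ⟨emb⟩ : Nonempty (Fin t ↪ κ) := Function.Embedding.nonempty_of_card_le (by simp [hcard, ht])
  let Φ : V →ₗ[k] (Fin t → k) := LinearMap.pi fun b => ev (a (emb b))
  have hΦ : Function.Surjective Φ := by
    rw [← LinearMap.range_eq_top]
    by_contra hne
    obtain ⟨φ, hφ, hle⟩ := (LinearMap.range Φ).exists_le_ker_of_lt_top (lt_top_iff_ne_top.2 hne)
    refine hφ ?_
    have hzero : ∑ b, φ (Pi.single b 1) • ev (a (emb b)) = 0 := LinearMap.ext fun w => by
      have := hle ⟨w, rfl⟩
      rw [LinearMap.mem_ker, pi_eq_sum_univ' (Φ w), map_sum] at this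
      simpa [Φ, mul_comm, LinearMap.sum_apply] using this
    have hb := Fintype.linearIndependent_iff.1 (hli.comp emb emb.injective) _ hzero
    exact LinearMap.pi_ext fun b x => by
      rw [show (Pi.single b x : Fin t → k) = x • Pi.single b 1 from funext fun i => by simp [Pi.single_apply], map_smul, hb, smul_zero, LinearMap.zero_apply]
  choose w hw using fun b => hΦ (Pi.single b 1)
  refine ⟨fun b => a (emb b), fun b => ∑ e : PlaneParam.Exps m r, monomial e.1 (w b e),
    fun b => PlaneParam.isHomogeneous_sum _, fun i b => ?_⟩
  rw [← hev]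
  have := congrFun (hw i) b
  rw [Pi.single_apply] at this
  simpa [Φ, eq_comm] using this

variable {K : Type u} [Field K] [IsAlgClosed K] [Algebra k K]

theorem eval_map_map {σ : Type*} (x : σ → k) (P : MvPolynomial σ k) :
    eval (fun i => algebraMap k K (x i)) (map (algebraMap k K) P) = algebraMap k K (eval x P) := by
  rw [eval_map, eval₂_comp]
  rfl

theorem exists_map_eq {σ : Type} (E : IntermediateField k K) (P : MvPolynomial σ K) (h : ∀ e, coeff e P ∈ E) :
    ∃ P0 : MvPolynomial σ E, map (algebraMap E K) P0 = P := by
  refine ⟨∑ e ∈ P.support, monomial e ⟨coeff e P, h e⟩, ?_⟩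
  conv_rhs => rw [P.as_sum]
  rw [map_sum]
  exact Finset.sum_congr rfl fun e _ => map_monomial _ _ _

set_option synthInstance.maxHeartbeats 200000 in
set_option maxHeartbeats 800000 in
theorem coeff_mem_of_loc (i₀ : Fin (n + 1)) (v : Fin n → K) {Φ : MvPolynomial (Fin (n + 1)) K}
    (hΦ : Φ.IsHomogeneous d) (E : IntermediateField k K) (hv : ∀ a, v a ∈ E)
    (hg : ∀ e, coeff e (loc i₀ v Φ) ∈ E) (e : Fin (n + 1) →₀ ℕ) : coeff e Φ ∈ E := by
  classical
  by_cases he : e.degree = d
  swap
  · rw [hΦ.coeff_eq_zero he]; exact zero_mem E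
  obtain ⟨g0, hg0⟩ := exists_map_eq E _ hg
  let f : MvPolynomial (Fin n) K := aeval (Fin.insertNth i₀ (1 : MvPolynomial (Fin n) K) X) Φ
  have hf : f = map (algebraMap E K) (aeval (fun a => X a - C (⟨v a, hv a⟩ : E)) g0) := by
    refine MvPolynomial.funext fun x => ?_
    have hm : ∀ P : MvPolynomial (Fin n) E, map (algebraMap E K) (aeval (fun a => X a - C (⟨v a, hv a⟩ : E)) P) =
        aeval (fun a => X a - C (v a)) (map (algebraMap E K) P) := fun P => by
      induction P using MvPolynomial.induction_on with
      | C r => simp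
      | add p q hp hq => simp only [map_add, hp, hq]
      | mul_X p j hp =>
        simp only [map_mul, hp, aeval_X, map_X, map_sub, map_C]
        rfl
    rw [eval_map, ← eval_map, hm,
      hg0, eval_aeval, eval_aeval, eval_loc]
    refine congrArg (fun y => eval y Φ) (funext fun j => ?_)
    induction j using Fin.succAboveCases i₀ with
    | x => simp
    | p a => simp
  have hmon : ∀ e' : PlaneParam.Exps n d, aeval (Fin.insertNth i₀ (1 : MvPolynomial (Fin n) K) X)
      (monomial e'.1 (coeff e'.1 Φ)) =
      monomial (Finsupp.comapDomain i₀.succAbove e'.1 Fin.succAbove_right_injective.injOn) (coeff e'.1 Φ) := by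
    intro e'
    rw [aeval_monomial, Finsupp.prod_fintype _ _ (fun _ => pow_zero _), Fin.prod_univ_succAbove _ i₀,
      monomial_eq, Finsupp.prod_fintype _ _ (fun _ => pow_zero _)]
    simp
  have hcoef : coeff (Finsupp.comapDomain i₀.succAbove e Fin.succAbove_right_injective.injOn) f = coeff e Φ := by
    simp only [f]
    conv_lhs => rw [PlaneParam.eq_sum_exps hΦ, map_sum, coeff_sum]
    rw [Finset.sum_eq_single (⟨e, he⟩ : PlaneParam.Exps n d)]
    · rw [hmon, coeff_monomial, if_pos rfl]
    · intro b _ hb
      rw [hmon, coeff_monomial, if_neg]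
      intro h
      refine hb (Subtype.ext ?_)
      have h1 : ∀ a, b.1 (i₀.succAbove a) = e (i₀.succAbove a) := fun a => by
        simpa using congrArg (fun w : Fin n →₀ ℕ => w a) h
      ext j
      induction j using Fin.succAboveCases i₀ with
      | x =>
        have hb' := b.2
        rw [Finsupp.degree_eq_sum, Fin.sum_univ_succAbove _ i₀, Finset.sum_congr rfl fun a _ => h1 a] at hb'
        have he' := he
        rw [Finsupp.degree_eq_sum, Fin.sum_univ_succAbove _ i₀] at he'
        show b.1 i₀ = e i₀
        omega
      | p a => exact h1 a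
    · simp
  rw [← hcoef, hf, coeff_map]
  exact SetLike.coe_mem _

set_option maxHeartbeats 800000 in
/-- the step: enlarge the linear space missing the first `j` parts -/
theorem exists_missing [IsAlgClosed k] (i₀ : Fin (n + 1)) (v : Fin n → K) (Φ : MvPolynomial (Fin (n + 1)) K)
    (hΦ : Φ.IsHomogeneous d) (hd : d + 3 ≤ n)
    (hind : AlgebraicIndependent k fun e : PlaneParam.Exps n d => coeff e.1 Φ)
    (h0 : eval (pt i₀ v) Φ = 0) : ∀ j, j ≤ d → ∃ A : Matrix (Fin n) (Fin j) k, ∀ l : Fin j → K,
      (∀ i, 1 ≤ i → i ≤ j → eval ((A.map (algebraMap k K)).mulVec l) (part i₀ v Φ i) = 0) → l = 0 := by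
  classical
  intro j
  induction j with
  | zero => exact fun _ => ⟨0, fun l _ => funext fun a => a.elim0⟩
  | succ j ih =>
    intro hj
    obtain ⟨A, hA⟩ := ih (by omega)
    set AK := A.map (algebraMap k K) with hAK
    have hAinj : ∀ l, A.mulVec l = 0 → l = 0 := fun l hl => by
      have h' := hA (fun b => algebraMap k K (l b)) fun i hi _ => by
        have : AK.mulVec (fun b => algebraMap k K (l b)) = 0 := funext fun a => by
          have := (algebraMap k K).map_mulVec A l a
          rw [hl] at this
          simpa [hAK, Function.comp_def] using this.symm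
        rw [this]
        exact eval_zero_part i₀ v Φ (by omega)
      exact funext fun b => by simpa using congrFun h' b
    obtain ⟨hjn, B, L, q, hAB, hqA, hqB⟩ := exists_split A hAinj
    obtain ⟨cpt, G, hG, hGc⟩ := exists_points (k := k) (m := n - j) (r := j + 1) (t := n) (by omega) (by
      rw [show n - j - 1 + (j + 1) = n by omega]
      exact le_choose (by omega) (by omega))
    set BK := B.map (algebraMap k K) with hBK
    by_contra hcon
    push Not at hcon
    have hlift : ∀ a : Fin n, ∃ l : Fin j → K, ∀ i, 1 ≤ i → i ≤ j + 1 →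
        eval (AK.mulVec l + BK.mulVec fun b => algebraMap k K (cpt a b)) (part i₀ v Φ i) = 0 := by
      intro a
      obtain ⟨l, hl, hl0⟩ := hcon (Matrix.of fun r c => (Fin.snoc (fun b => A r b) (B.mulVec (cpt a) r) : Fin (j + 1) → k) c)
      set u := BK.mulVec fun b => algebraMap k K (cpt a b) with hu
      have he : ∀ i, 1 ≤ i → i ≤ j + 1 → eval (AK.mulVec (Fin.init l) + l (Fin.last j) • u) (part i₀ v Φ i) = 0 := by
        intro i h1 h2
        refine Eq.trans (congrArg (fun y => eval y (part i₀ v Φ i)) ?_) (hl i h1 h2)
        funext r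
        simp [hu, hAK, hBK, Matrix.mulVec, dotProduct, Fin.sum_univ_castSucc, Fin.init, Finset.sum_mul, Finset.mul_sum]
        refine Finset.sum_congr rfl fun b _ => by ring
      have ht : l (Fin.last j) ≠ 0 := fun ht => by
        refine hl0 (funext fun c => ?_)
        have := hA (Fin.init l) fun i h1 h2 => by simpa [ht] using he i h1 (h2.trans (Nat.le_succ j))
        induction c using Fin.lastCases with
        | last => exact ht
        | cast c => exact congrFun this c
      refine ⟨(l (Fin.last j))⁻¹ • Fin.init l, fun i h1 h2 => ?_⟩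
      rw [show AK.mulVec ((l (Fin.last j))⁻¹ • Fin.init l) + u =
        (l (Fin.last j))⁻¹ • (AK.mulVec (Fin.init l) + l (Fin.last j) • u) by
          rw [Matrix.mulVec_smul, smul_add, smul_smul, inv_mul_cancel₀ ht, one_smul],
        eval_smul' (P := part i₀ v Φ i) (homogeneousComponent_isHomogeneous i (loc i₀ v Φ)), he i h1 h2, mul_zero]
    choose lp hlp using hlift
    -- the rational complement
    let Γ : Fin n → MvPolynomial (Fin n) k := fun a => aeval (fun t => ∑ r, C (q t r) * X r) (G a)
    have hΓhom : ∀ a, (Γ a).IsHomogeneous (j + 1) := fun a => isHomogeneous_linear _ (hG a)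
    let p : Fin n → Fin n → K := fun a => AK.mulVec (lp a) + BK.mulVec fun b => algebraMap k K (cpt a b)
    have hqp : ∀ a, (q.map (algebraMap k K)).mulVec (p a) = fun b => algebraMap k K (cpt a b) := fun a => by
      simp only [p, Matrix.mulVec_add, Matrix.mulVec_mulVec, hAK, hBK, ← Matrix.map_mul, hqA, hqB]
      rw [Matrix.map_one _ (map_zero _) (map_one _), Matrix.one_mulVec]
      simp
    have hΓp : ∀ a b, eval (p b) (map (algebraMap k K) (Γ a)) = if a = b then 1 else 0 := fun a b => by
      have e : map (algebraMap k K) (Γ a) =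
          aeval (fun t => ∑ r, C (algebraMap k K (q t r)) * X r) (map (algebraMap k K) (G a)) := by
        simp only [Γ]
        induction G a using MvPolynomial.induction_on with
        | C r => simp
        | add p q hp hq => simp only [map_add, hp, hq]
        | mul_X p t hp => simp only [map_mul, hp, aeval_X, map_X, map_sum, map_C]
      rw [e, eval_aeval, show (fun t => eval (p b) (∑ r, C (algebraMap k K (q t r)) * X r)) =
        fun t => algebraMap k K (cpt b t) from funext fun t => by
          rw [← congrFun (hqp b) t]; simp [Matrix.mulVec, dotProduct], eval_map_map, hGc]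
      split_ifs <;> simp
    let Ev : (Mon n d → k) →ₗ[k] (Fin n → k) := LinearMap.pi fun a =>
      ∑ e : Mon n d, (if e.1.degree = j + 1 then eval (B.mulVec (cpt a)) (monomial e.1 1) else 0) • LinearMap.proj e
    let Γv : Fin n → Mon n d → k := fun a e => coeff e.1 (Γ a)
    have hsumMon : ∀ {S : Type u} [CommRing S] (P : MvPolynomial (Fin n) S), P.IsHomogeneous (j + 1) →
        ∑ e : Mon n d, monomial e.1 (if e.1.degree = j + 1 then coeff e.1 P else 0) = P := by
      intro S _ P hP
      refine MvPolynomial.ext _ _ fun g => ?_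
      simp only [coeff_sum, coeff_monomial]
      by_cases hg : g.degree = j + 1
      · rw [Finset.sum_eq_single (⟨g, by omega, by omega⟩ : Mon n d) (fun b _ hb => if_neg fun h => hb (Subtype.ext h))
          (by simp), if_pos rfl, if_pos hg]
      · rw [hP.coeff_eq_zero hg, Finset.sum_eq_zero fun b _ => ?_]
        split_ifs with h h'
        · exact absurd (h ▸ h') hg
        · rfl
        · rfl
    have hEvΓ : ∀ a, Ev (Γv a) = Pi.single a 1 := fun a => funext fun b => by
      have h1 := congrArg (eval (B.mulVec (cpt b))) (hsumMon (Γ a) (hΓhom a))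
      have h2 : eval (B.mulVec (cpt b)) (Γ a) = if a = b then 1 else 0 := by
        simp only [Γ, eval_aeval]
        rw [show (fun t => eval (B.mulVec (cpt b)) (∑ r, C (q t r) * X r)) = cpt b from funext fun t => by
          have := congrFun (congrArg (fun M : Matrix _ _ k => M.mulVec (cpt b)) hqB) t
          rw [Matrix.one_mulVec, ← Matrix.mulVec_mulVec] at this
          rw [← this]
          simp [Matrix.mulVec, dotProduct]]
        exact hGc a b
      rw [h2, map_sum] at h1
      rw [Pi.single_apply, show (if b = a then (1 : k) else 0) = if a = b then 1 else 0 by simp [eq_comm], ← h1]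
      simp only [Ev, LinearMap.pi_apply, LinearMap.sum_apply, LinearMap.smul_apply, LinearMap.proj_apply, smul_eq_mul, Γv]
      refine Finset.sum_congr rfl fun e _ => ?_
      simp only [eval_monomial]
      split_ifs <;> ring
    let π : (Mon n d → k) →ₗ[k] LinearMap.ker Ev :=
      (LinearMap.id - ∑ a, ((LinearMap.proj a).comp Ev).smulRight (Γv a)).codRestrict _ fun g => by
        rw [LinearMap.mem_ker, LinearMap.sub_apply, map_sub, LinearMap.id_apply, LinearMap.sum_apply, map_sum]
        simp only [LinearMap.smulRight_apply, map_smul, hEvΓ, LinearMap.comp_apply, LinearMap.proj_apply]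
        funext b
        simp [Finset.sum_apply, Pi.single_apply]
    have hker : Module.finrank k (LinearMap.ker Ev) + n = Fintype.card (Mon n d) := by
      have h := LinearMap.finrank_range_add_finrank_ker Ev
      have hsurj : Function.Surjective Ev := fun y => ⟨∑ a, y a • Γv a, by
        simp only [map_sum, map_smul, hEvΓ]; funext b; simp [Pi.single_apply]⟩
      rw [LinearMap.range_eq_top.2 hsurj, finrank_top, Module.finrank_fin_fun, Module.finrank_fintype_fun_eq_card] at h
      omega
    let bK := Module.finBasis k (LinearMap.ker Ev)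
    -- the generators
    set g := loc i₀ v Φ with hg
    let φ : Fin (Module.finrank k (LinearMap.ker Ev)) → K := fun b =>
      ∑ e : Mon n d, algebraMap k K (bK.repr (π (Pi.single e 1)) b) * coeff e.1 g
    let γ : Fin n ⊕ Fin (Module.finrank k (LinearMap.ker Ev)) → K := Sum.elim v φ
    set E0 := IntermediateField.adjoin k (Set.range γ) with hE0
    set E1 := (algebraicClosure E0 K).restrictScalars k with hE1
    have hE01 : E0 ≤ E1 := fun x hx => by
      rw [hE1, IntermediateField.mem_restrictScalars, mem_algebraicClosure_iff]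
      exact isAlgebraic_algebraMap (⟨x, hx⟩ : E0)
    let lam : Fin n → K := fun a => ∑ e : Mon n d, algebraMap k K (Ev (Pi.single e 1) a) * coeff e.1 g
    have hdec : ∀ e : Mon n d, coeff e.1 g =
        (∑ b, algebraMap k K ((bK b : Mon n d → k) e) * φ b) + ∑ a, algebraMap k K (Γv a e) * lam a := by
      intro e
      have hid : ∀ e' : Mon n d, (∑ b, (bK b : Mon n d → k) e * bK.repr (π (Pi.single e' 1)) b) +
          ∑ a, Γv a e * Ev (Pi.single e' 1) a = if e' = e then 1 else 0 := fun e' => by
        have h1 := congrArg (fun w : LinearMap.ker Ev => (w : Mon n d → k) e) (bK.sum_repr (π (Pi.single e' 1)))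
        simp only [Submodule.coe_sum, Submodule.coe_smul, Finset.sum_apply, Pi.smul_apply, smul_eq_mul] at h1
        rw [show ∑ b, (bK b : Mon n d → k) e * bK.repr (π (Pi.single e' 1)) b =
          (π (Pi.single e' 1) : Mon n d → k) e by rw [← h1]; exact Finset.sum_congr rfl fun b _ => mul_comm _ _]
        simp only [π, LinearMap.codRestrict_apply, LinearMap.sub_apply, LinearMap.id_apply, LinearMap.sum_apply,
          Pi.sub_apply, Finset.sum_apply, LinearMap.smulRight_apply, LinearMap.comp_apply, LinearMap.proj_apply,
          Pi.smul_apply, smul_eq_mul, Pi.single_apply]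
        rw [show (∑ a, Γv a e * Ev (Pi.single e' 1) a) = ∑ a, Ev (Pi.single e' 1) a * Γv a e from
          Finset.sum_congr rfl fun a _ => mul_comm _ _, sub_add_cancel]
        simp [eq_comm]
      have hid' : ∀ e' : Mon n d, (∑ b, algebraMap k K ((bK b : Mon n d → k) e) * algebraMap k K (bK.repr (π (Pi.single e' 1)) b)) +
          ∑ a, algebraMap k K (Γv a e) * algebraMap k K (Ev (Pi.single e' 1) a) = if e' = e then 1 else 0 := fun e' => by
        simp only [← map_mul, ← map_sum, ← map_add, hid e']
        split_ifs <;> simp
      simp only [φ, lam, Finset.mul_sum, ← mul_assoc]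
      rw [Finset.sum_comm, Finset.sum_comm (s := (Finset.univ : Finset (Fin n))), ← Finset.sum_add_distrib]
      simp only [← Finset.sum_mul, ← add_mul, hid']
      simp
    have hφmem : ∀ b, φ b ∈ E0 := fun b => IntermediateField.subset_adjoin k _ ⟨Sum.inr b, rfl⟩
    have hΓzero : ∀ a (e : Fin n →₀ ℕ), e.degree ≠ j + 1 → coeff e (Γ a) = 0 := fun a e he => (hΓhom a).coeff_eq_zero he
    have hgle : ∀ e : Fin n →₀ ℕ, d < e.degree → coeff e g = 0 := fun e he =>
      coeff_eq_zero_of_totalDegree_lt (lt_of_le_of_lt (totalDegree_loc i₀ v hΦ) he)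
    have hg0 : coeff 0 g = 0 := by
      rw [← constantCoeff_eq, ← eval_zero, hg, eval_loc]
      simpa [pt] using h0
    have hlow : ∀ e : Fin n →₀ ℕ, e.degree ≠ j + 1 → coeff e g ∈ E0 := fun e he => by
      by_cases h1 : e.degree = 0
      · rw [(Finsupp.degree_eq_zero_iff e).1 h1, hg0]; exact zero_mem _
      by_cases h2 : d < e.degree
      · rw [hgle e h2]; exact zero_mem _
      rw [hdec ⟨e, by omega, by omega⟩]
      refine add_mem (sum_mem fun b _ => mul_mem (E0.algebraMap_mem _) (hφmem b)) (sum_mem fun a _ => ?_)
      simp only [Γv, hΓzero a e he, map_zero, zero_mul]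
      exact zero_mem _
    -- the points are algebraic
    have hlalg : ∀ a b, lp a b ∈ E1 := fun a b => by
      have hpart : ∀ i : Fin j, ∀ e, coeff e (part i₀ v Φ (i + 1)) ∈ E0 := fun i e => by
        rw [part, coeff_homogeneousComponent]
        split_ifs with h
        · exact hlow e (by have := i.2; omega)
        · exact zero_mem _
      choose F0 hF0 using fun i => exists_map_eq E0 _ (hpart i)
      have hF0hom : ∀ i : Fin j, (F0 i).IsHomogeneous ((i : ℕ) + 1) := fun i e he =>
        homogeneousComponent_isHomogeneous ((i : ℕ) + 1) g (by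
          have := congrArg (coeff e) (hF0 i)
          rw [coeff_map] at this
          rw [show homogeneousComponent ((i : ℕ) + 1) g = part i₀ v Φ (i + 1) from rfl, ← this]
          exact (map_ne_zero_iff _ (RingHom.injective (algebraMap E0 K))).2 he)
      let ρ : Fin n → E0 := fun r => algebraMap k E0 (B.mulVec (cpt a) r)
      let Ae : Fin n → Fin j → E0 := fun r c => algebraMap k E0 (A r c)
      have key : ∀ (l : Fin j → K) (r : Fin n → E0) (P : MvPolynomial (Fin n) E0),
          aeval l (aeval (fun s => (∑ c, C (Ae s c) * X c) + C (r s)) P) =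
            eval (fun s => (AK.mulVec l) s + (r s : K)) (map (algebraMap E0 K) P) := by
        intro l r P
        induction P using MvPolynomial.induction_on with
        | C x => simp
        | add p q hp hq => simp only [map_add, hp, hq]
        | mul_X p s hp =>
          simp only [map_mul, hp, aeval_X, map_X, eval_X]
          congr 1
          simp [Ae, hAK, Matrix.mulVec, dotProduct, ← IsScalarTower.algebraMap_apply]
      have hint := isIntegral_of_top (E := E0) (K := K) (S := E0) (A := K) (fun i : Fin j => (i : ℕ) + 1)
        (fun i => aeval (fun s => ∑ c, C (Ae s c) * X c) (F0 i))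
        (fun i => isHomogeneous_linear _ (hF0hom i))
        (fun l hl => hA l fun i h1 h2 => by
          have h3 := hl ⟨i - 1, by omega⟩
          have e : (fun s => (∑ c, C (Ae s c) * X c : MvPolynomial (Fin j) E0)) =
              fun s => (∑ c, C (Ae s c) * X c) + C ((0 : Fin n → E0) s) := by simp
          simp only [e] at h3
          rw [key, hF0] at h3
          simp only [show i - 1 + 1 = i by omega] at h3
          simpa using h3)
        (fun i => aeval (fun s => (∑ c, C (Ae s c) * X c) + C (ρ s)) (F0 i))
        (fun i => by rw [Algebra.algebraMap_self, map_id]; exact affine_subst Ae ρ (hF0hom i))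
        (lp a) (fun i => by
          rw [key, hF0]
          refine Eq.trans (congrArg (fun y => eval y _) (funext fun s => ?_)) (hlp a ((i : ℕ) + 1) (by omega) (by omega))
          have := (algebraMap k K).map_mulVec B (cpt a) s
          rw [Pi.add_apply, hBK]
          exact congrArg _ this) b
      rw [hE1, IntermediateField.mem_restrictScalars, mem_algebraicClosure_iff]
      exact hint.isAlgebraic
    have hpmem : ∀ a r, p a r ∈ E1 := fun a r => by
      simp only [p, Pi.add_apply, Matrix.mulVec, dotProduct, hAK, hBK, Matrix.map_apply]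
      exact add_mem (sum_mem fun b _ => mul_mem (E1.algebraMap_mem _) (hlalg a b))
        (sum_mem fun b _ => mul_mem (E1.algebraMap_mem _) (E1.algebraMap_mem _))
    have hlam : ∀ a, lam a ∈ E1 := by
      intro a
      have hpart : part i₀ v Φ (j + 1) =
          (∑ e : Mon n d, monomial e.1 (if e.1.degree = j + 1 then ∑ b, algebraMap k K ((bK b : Mon n d → k) e) * φ b else 0)) +
            ∑ a, C (lam a) * map (algebraMap k K) (Γ a) := by
        rw [← hsumMon (part i₀ v Φ (j + 1)) (homogeneousComponent_isHomogeneous _ _)]
        conv_rhs => arg 2; arg 2; ext a; rw [← hsumMon (map (algebraMap k K) (Γ a)) ((hΓhom a).map _), Finset.mul_sum]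
        rw [Finset.sum_comm (s := (Finset.univ : Finset (Fin n))), ← Finset.sum_add_distrib]
        refine Finset.sum_congr rfl fun e _ => ?_
        simp only [C_mul_monomial, ← map_sum, ← map_add]
        congr 1
        split_ifs with h
        · rw [part, coeff_homogeneousComponent, if_pos h, hdec e]
          exact congrArg₂ (· + ·) rfl (Finset.sum_congr rfl fun a _ => by rw [coeff_map, mul_comm])
        · simp
      have h1 := hlp a (j + 1) (by omega) le_rfl
      rw [hpart, map_add, map_sum, map_sum] at h1
      simp only [map_mul, eval_C, show eval (AK.mulVec (lp a) + BK.mulVec fun b => algebraMap k K (cpt a b)) = eval (p a) from rfl, hΓp, mul_ite, mul_one, mul_zero, Finset.sum_ite_eq', Finset.mem_univ, if_true] at h1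
      rw [show lam a = -(∑ e : Mon n d, eval (p a) (monomial e.1 (if e.1.degree = j + 1 then ∑ b, algebraMap k K ((bK b : Mon n d → k) e) * φ b else 0))) by linear_combination h1]
      refine neg_mem (sum_mem fun e _ => ?_)
      rw [eval_monomial]
      refine mul_mem ?_ (prod_mem fun r _ => pow_mem (hpmem a r) _)
      split_ifs
      · exact sum_mem fun b _ => mul_mem (E1.algebraMap_mem _) (hE01 (hφmem b))
      · exact zero_mem _
    have hall : ∀ e, coeff e g ∈ E1 := fun e => by
      by_cases he : e.degree = j + 1
      · rw [hdec ⟨e, by omega, by omega⟩]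
        exact add_mem (sum_mem fun b _ => mul_mem (E1.algebraMap_mem _) (hE01 (hφmem b)))
          (sum_mem fun a _ => mul_mem (E1.algebraMap_mem _) (hlam a))
      · exact hE01 (hlow e he)
    have hcard := card_le_of_isAlgebraic _ hind γ fun e => by
      have := coeff_mem_of_loc i₀ v hΦ E1 (fun a => hE01 (IntermediateField.subset_adjoin k _ ⟨Sum.inl a, rfl⟩)) hall e.1
      rw [hE1, IntermediateField.mem_restrictScalars, mem_algebraicClosure_iff] at this
      exact this
    rw [Fintype.card_sum, Fintype.card_fin, Fintype.card_fin, PlaneParam.card_exps, ← card_mon] at hcard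
    omega

theorem hasSub_of_independent [IsAlgClosed k] (i₀ : Fin (n + 1)) (v : Fin n → K) (Φ : MvPolynomial (Fin (n + 1)) K)
    (hΦ : Φ.IsHomogeneous d) (hd : d + 3 ≤ n)
    (hind : AlgebraicIndependent k fun e : PlaneParam.Exps n d => coeff e.1 Φ)
    (h0 : eval (pt i₀ v) Φ = 0) : HasSub i₀ v d Φ := by
  obtain ⟨A, hA⟩ := exists_missing i₀ v Φ hΦ hd hind h0 d le_rfl
  exact ⟨fun a b => algebraMap k K (A a b), fun l hl => hA l fun i h1 h2 => hl i h1 h2⟩

end Groth.Agent.ConeLines
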