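import Groth.Agent.ConeLines.Core
import Mathlib

/-! From independent coefficients to general ones, through an ultrapower. -/

namespace Groth.Agent.ConeLines

open MvPolynomial Filter

universe u

variable {n d : ℕ} {k : Type u} [Field k]

theorem isAlgClosed_germ [IsAlgClosed k] {α : Type u} (U : Ultrafilter α) :
    IsAlgClosed (Filter.Germ (U : Filter α) k) := by
  refine IsAlgClosed.of_exists_root _ fun p hmon hirr => ?_
  have hm : 0 < p.natDegree := hirr.natDegree_pos
  let π : (α → k) →+* Filter.Germ (U : Filter α) k := Filter.Germ.coeRingHom _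
  have hπ : Function.Surjective π := fun z => Quotient.inductionOn' z fun f => ⟨f, rfl⟩
  choose f hf using fun i : ℕ => hπ (p.coeff i)
  let P : α → Polynomial k := fun a =>
    Polynomial.X ^ p.natDegree + ∑ i ∈ Finset.range p.natDegree, Polynomial.C (f i a) * Polynomial.X ^ i
  have hdeg : ∀ a, (P a).degree ≠ 0 := fun a => by
    have hlt : (∑ i ∈ Finset.range p.natDegree, Polynomial.C (f i a) * Polynomial.X ^ i).degree < (p.natDegree : WithBot ℕ) := by
      refine lt_of_le_of_lt (Polynomial.degree_sum_le _ _) ((Finset.sup_lt_iff (WithBot.bot_lt_coe _)).2 fun i hi => ?_)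
      exact lt_of_le_of_lt (Polynomial.degree_C_mul_X_pow_le _ _) (by exact_mod_cast Finset.mem_range.1 hi)
    have : (P a).degree = (p.natDegree : WithBot ℕ) := by
      rw [Polynomial.degree_add_eq_left_of_degree_lt (by rw [Polynomial.degree_X_pow]; exact hlt), Polynomial.degree_X_pow]
    rw [this]
    exact_mod_cast hm.ne'
  choose r hr using fun a => IsAlgClosed.exists_root (P a) (hdeg a)
  refine ⟨π r, ?_⟩
  rw [Polynomial.eval_eq_sum_range, Finset.sum_range_succ, hmon.coeff_natDegree, one_mul]
  simp only [← hf, ← map_pow, ← map_mul, ← map_sum, ← map_add]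
  rw [← map_zero π]
  congr 1
  funext a
  have := hr a
  simp only [P, Polynomial.IsRoot.def, Polynomial.eval_add, Polynomial.eval_finsetSum, Polynomial.eval_mul,
    Polynomial.eval_C, Polynomial.eval_pow, Polynomial.eval_X] at this
  simp only [Pi.add_apply, Finset.sum_apply, Pi.mul_apply, Pi.pow_apply, Pi.zero_apply]
  linear_combination this

/-- the local equation over any ring -/
noncomputable def locR {R : Type u} [CommRing R] (i₀ : Fin (n + 1)) (v : Fin n → R)
    (Φ : MvPolynomial (Fin (n + 1)) R) (i : ℕ) : MvPolynomial (Fin n) R :=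
  homogeneousComponent i (aeval (fun j => (∑ a, C (if j = i₀.succAbove a then 1 else 0) * X a) +
    C (Fin.insertNth (α := fun _ => R) i₀ (1 : R) v j)) Φ)

theorem map_homogeneousComponent {σ : Type} {R S : Type u} [CommRing R] [CommRing S] (φ : R →+* S) (i : ℕ)
    (P : MvPolynomial σ R) : map φ (homogeneousComponent i P) = homogeneousComponent i (map φ P) := by
  refine MvPolynomial.ext _ _ fun e => ?_
  rw [coeff_map, coeff_homogeneousComponent, coeff_homogeneousComponent, coeff_map]
  split_ifs <;> simp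

theorem map_aeval' {σ τ : Type} {R S : Type u} [CommRing R] [CommRing S] (φ : R →+* S)
    (f : σ → MvPolynomial τ R) (P : MvPolynomial σ R) :
    map φ (aeval f P) = aeval (fun s => map φ (f s)) (map φ P) := by
  induction P using MvPolynomial.induction_on with
  | C r => simp
  | add p q hp hq => simp only [map_add, hp, hq]
  | mul_X p s hp => simp only [map_mul, aeval_X, map_X, hp]

theorem map_locR {R K : Type u} [CommRing R] [Field K] (φ : R →+* K) (i₀ : Fin (n + 1)) (v : Fin n → R)
    (Φ : MvPolynomial (Fin (n + 1)) R) (i : ℕ) :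
    map φ (locR i₀ v Φ i) = part i₀ (fun a => φ (v a)) (map φ Φ) i := by
  rw [locR, map_homogeneousComponent, map_aeval', part, loc]
  refine congrArg _ (congrArg (fun f => aeval f (map φ Φ)) (funext fun j => ?_))
  rw [map_add, map_sum, map_C]
  refine congrArg₂ (· + ·) (Finset.sum_congr rfl fun a _ => ?_) (congrArg C ?_)
  · simp only [map_mul, map_C, map_X, incl]
    split_ifs <;> simp
  · induction j using Fin.succAboveCases i₀ with
    | x => simp [pt]
    | p a => simp [pt]

set_option maxHeartbeats 1600000 in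
theorem exists_poly_hasSub [IsAlgClosed k] (hd : d + 3 ≤ n) (i₀ : Fin (n + 1)) :
    ∃ P : MvPolynomial (PlaneParam.Exps n d) k, P ≠ 0 ∧ ∀ Φ : MvPolynomial (Fin (n + 1)) k, Φ.IsHomogeneous d →
      eval (fun e => coeff e.1 Φ) P ≠ 0 → ∀ v : Fin n → k, eval (pt i₀ v) Φ = 0 → HasSub i₀ v d Φ := by
  classical
  by_contra hcon
  push Not at hcon
  let α := {P : MvPolynomial (PlaneParam.Exps n d) k // P ≠ 0}
  choose Φ hΦ hP v hv hbad using fun P : α => hcon P.1 P.2
  let s : α → Set α := fun Q => {P | Q.1 ∣ P.1}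
  haveI : Nonempty α := ⟨⟨1, one_ne_zero⟩⟩
  haveI hne : (⨅ Q, 𝓟 (s Q)).NeBot := by
    refine iInf_neBot_of_directed (fun (Q Q' : α) => ⟨⟨Q.1 * Q'.1, mul_ne_zero Q.2 Q'.2⟩, ?_, ?_⟩)
      fun (Q : α) => principal_neBot_iff.2 ⟨Q, dvd_rfl⟩
    · exact principal_mono.2 fun P (h : Q.1 * Q'.1 ∣ P.1) => (dvd_mul_right _ _).trans h
    · exact principal_mono.2 fun P (h : Q.1 * Q'.1 ∣ P.1) => (dvd_mul_left _ _).trans h
  let U : Ultrafilter α := Ultrafilter.of (⨅ Q, 𝓟 (s Q))
  have hU : ∀ Q : α, ∀ᶠ P in (U : Filter α), Q.1 ∣ P.1 := fun Q =>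
    (Ultrafilter.of_le _) (mem_iInf_of_mem Q (mem_principal_self _))
  let K := Filter.Germ (U : Filter α) k
  let π : (α → k) →+* K := Filter.Germ.coeRingHom _
  letI : Algebra k K := (π.comp (algebraMap k (α → k))).toAlgebra
  haveI : IsAlgClosed K := isAlgClosed_germ U
  let Φu : MvPolynomial (Fin (n + 1)) (α → k) :=
    ∑ e : PlaneParam.Exps n d, monomial e.1 fun P => coeff e.1 (Φ P)
  have hev : ∀ P, map (Pi.evalRingHom (fun _ : α => k) P) Φu = Φ P := fun P => by
    conv_rhs => rw [PlaneParam.eq_sum_exps (hΦ P)]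
    simp [Φu, map_sum]
  let vu : Fin n → (α → k) := fun a P => v P a
  have hind : AlgebraicIndependent k fun e : PlaneParam.Exps n d => coeff e.1 (map π Φu) := by
    rw [algebraicIndependent_iff_injective_aeval, injective_iff_map_eq_zero]
    intro Q hQ
    by_contra hQ0
    have hc : ∀ e : PlaneParam.Exps n d, coeff e.1 (map π Φu) = π fun P => coeff e.1 (Φ P) := fun e => by
      rw [coeff_map]
      congr 1
      funext P
      rw [← hev P, coeff_map]
      rfl
    have e : ∀ Q : MvPolynomial (PlaneParam.Exps n d) k, aeval (fun e : PlaneParam.Exps n d => coeff e.1 (map π Φu)) Q =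
        π fun P => eval (fun e : PlaneParam.Exps n d => coeff e.1 (Φ P)) Q := by
      intro Q
      simp only [hc]
      induction Q using MvPolynomial.induction_on with
      | C r => rw [aeval_C]; simp [RingHom.algebraMap_toAlgebra]; rfl
      | add p q hp hq => rw [map_add, hp, hq, ← map_add]; congr 1; funext P; simp
      | mul_X p e hp => rw [map_mul, hp, aeval_X, ← map_mul]; congr 1; funext P; simp
    rw [e] at hQ
    have h0 : ∀ᶠ P in (U : Filter α), eval (fun e : PlaneParam.Exps n d => coeff e.1 (Φ P)) Q = 0 :=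
      Filter.Germ.coe_eq.1 hQ
    obtain ⟨P, hP0, hdvd⟩ := (h0.and (hU ⟨Q, hQ0⟩)).exists
    obtain ⟨R, hR⟩ := hdvd
    exact hP P (by rw [show P.1 = Q * R from hR, map_mul, hP0, zero_mul])
  have hhom : (map π Φu).IsHomogeneous d :=
    (IsHomogeneous.sum _ _ _ fun e _ => isHomogeneous_monomial _ e.2).map _
  have h0 : eval (pt i₀ fun a => π (vu a)) (map π Φu) = 0 := by
    have e : eval (fun j => π ((Fin.insertNth i₀ (1 : α → k) vu : Fin (n + 1) → α → k) j)) (map π Φu) =
        π (eval (Fin.insertNth i₀ (1 : α → k) vu) Φu) := by rw [eval_map, eval₂_comp]; rfl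
    have hpt : (fun j => π ((Fin.insertNth i₀ (1 : α → k) vu : Fin (n + 1) → α → k) j)) = pt i₀ fun a => π (vu a) := by
      funext j
      induction j using Fin.succAboveCases i₀ with
      | x => simp [pt]
      | p a => simp [pt]
    rw [← hpt, e]
    refine (congrArg π (funext fun P => ?_ : _ = (0 : α → k))).trans (map_zero π)
    have e2 : (eval (Fin.insertNth i₀ (1 : α → k) vu) Φu) P =
        eval (fun j => (Fin.insertNth i₀ (1 : α → k) vu : Fin (n + 1) → α → k) j P) (map (Pi.evalRingHom (fun _ : α => k) P) Φu) := by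
      rw [eval_map]; exact eval₂_comp (Pi.evalRingHom (fun _ : α => k) P) _ _
    rw [e2, hev]
    refine Eq.trans (congrArg (fun y => eval y (Φ P)) (funext fun j => ?_)) (hv P)
    induction j using Fin.succAboveCases i₀ with
    | x => simp [pt]
    | p a => simp [pt, vu]
  obtain ⟨A, hA⟩ := hasSub_of_independent i₀ _ (map π Φu) hhom hd hind h0
  have hπ : Function.Surjective π := fun z => Quotient.inductionOn' z fun f => ⟨f, rfl⟩
  choose Au hAu using fun a b => hπ (A a b)
  have hlp : ∀ P, ∃ l : Fin d → k, (∀ i, 1 ≤ i → i ≤ d → eval (fun a => ∑ b, Au a b P * l b) (part i₀ (v P) (Φ P) i) = 0) ∧ l ≠ 0 := by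
    intro P
    have := hbad P
    simp only [HasSub, not_exists, not_forall] at this
    obtain ⟨l, hl, hl0⟩ := this fun a b => Au a b P
    exact ⟨l, hl, hl0⟩
  choose l hl hl0 using hlp
  let lu : Fin d → (α → k) := fun b P => l P b
  have hzero := hA (fun b => π (lu b)) fun i h1 h2 => by
    have e : eval (fun a => ∑ b, A a b * π (lu b)) (part i₀ (fun a => π (vu a)) (map π Φu) i) =
        π (eval (fun a => ∑ b, Au a b * lu b) (locR i₀ vu Φu i)) := by
      rw [← map_locR, eval_map, show (fun a => ∑ b, A a b * π (lu b)) = π ∘ fun a => ∑ b, Au a b * lu b from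
        funext fun a => by simp [hAu], ← eval₂_comp]
    rw [e]
    refine (congrArg π (funext fun P => ?_ : _ = (0 : α → k))).trans (map_zero π)
    have e2 : (eval (fun a => ∑ b, Au a b * lu b) (locR i₀ vu Φu i)) P =
        eval (fun a => (∑ b, Au a b * lu b) P) (map (Pi.evalRingHom (fun _ : α => k) P) (locR i₀ vu Φu i)) := by
      rw [eval_map]; exact eval₂_comp (Pi.evalRingHom (fun _ : α => k) P) _ _
    rw [e2, map_locR, hev]
    refine Eq.trans (congrArg (fun y => eval y _) (funext fun a => ?_)) (hl P i h1 h2)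
    simp [lu]
  have hall : ∀ᶠ P in (U : Filter α), ∀ b, l P b = 0 :=
    eventually_all.2 fun b => Filter.Germ.coe_eq.1 (congrFun hzero b : π (lu b) = 0)
  obtain ⟨P, hP'⟩ := hall.exists
  exact hl0 P (funext hP')

end Groth.Agent.ConeLines
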